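import Mathlib
import Cfsg.Prelude.Def_Solvable
import Cfsg.Prelude.Def_Local
import Cfsg.Agent.Helper17.FStarP

set_option autoImplicit false

namespace Cfsg.Agent.Helper3

open Cfsg

section TrvCent

variable {F : Type*} [Field F] [Fintype F] [DecidableEq F] {n : ℕ}

theorem f2_cases (hF : Fintype.card F = 2) (a : F) : a = 0 ∨ a = 1 := by
  by_contra h
  push Not at h
  have h1 : (1 : F) ∉ ({a} : Finset F) := by simp [Ne.symm h.2]
  have h0 : (0 : F) ∉ (insert 1 {a} : Finset F) := by simp [Ne.symm h.1]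
  have h3 : (insert 0 (insert 1 {a}) : Finset F).card = 3 := by
    rw [Finset.card_insert_of_notMem h0, Finset.card_insert_of_notMem h1, Finset.card_singleton]
  have h4 := Finset.card_le_univ (insert 0 (insert 1 {a}) : Finset F)
  rw [h3, hF] at h4
  omega

theorem f2_add_self (hF : Fintype.card F = 2) (a : F) : a + a = 0 := by
  have h11 : (1 : F) + 1 = 0 := by
    rcases f2_cases hF ((1 : F) + 1) with h | h
    · exact h
    · exfalso
      have h2 : (1 : F) = 0 := add_left_cancel (a := (1 : F)) (by rw [h, add_zero])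
      exact one_ne_zero h2
  calc a + a = a * (1 + 1) := by ring
    _ = 0 := by rw [h11, mul_zero]

theorem trvL (M : Matrix (Fin n) (Fin n) F) (i j a b : Fin n) :
    (M * Matrix.transvection i j (1 : F)) a b = M a b + if b = j then M a i else 0 := by
  unfold Matrix.transvection
  rw [Matrix.mul_add, Matrix.mul_one, Matrix.add_apply]
  congr 1
  by_cases hb : b = j
  · subst hb
    rw [Matrix.mul_single_apply_same, mul_one, if_pos rfl]
  · rw [if_neg hb, Matrix.mul_apply]
    apply Finset.sum_eq_zero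
    intro k _
    rw [Matrix.single_apply, if_neg, mul_zero]
    rintro ⟨-, h⟩
    exact hb h.symm

theorem trvR (M : Matrix (Fin n) (Fin n) F) (i j a b : Fin n) :
    (Matrix.transvection i j (1 : F) * M) a b = M a b + if a = i then M j b else 0 := by
  unfold Matrix.transvection
  rw [Matrix.add_mul, Matrix.one_mul, Matrix.add_apply]
  congr 1
  by_cases ha : a = i
  · subst ha
    rw [Matrix.single_mul_apply_same, one_mul, if_pos rfl]
  · rw [if_neg ha, Matrix.mul_apply]
    apply Finset.sum_eq_zero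
    intro k _
    rw [Matrix.single_apply, if_neg, zero_mul]
    rintro ⟨h, -⟩
    exact ha h.symm

theorem trv_col (hF : Fintype.card F = 2) (i j : Fin n) (M : Matrix (Fin n) (Fin n) F)
    (hdet : M.det = 1)
    (h : M * Matrix.transvection i j 1 = Matrix.transvection i j 1 * M) :
    ∀ a, M a i = if a = i then 1 else 0 := by
  have key : ∀ a, M a i = if a = i then M j j else 0 := by
    intro a
    have h1 := congrFun (congrFun h a) j
    rw [trvL, trvR, if_pos rfl] at h1
    exact add_left_cancel h1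
  have hjj : M j j = 1 := by
    rcases f2_cases hF (M j j) with h0 | h1
    · exfalso
      have hz : M.det = 0 := by
        apply Matrix.det_eq_zero_of_column_eq_zero i
        intro a
        rw [key a, h0]
        split_ifs <;> rfl
      rw [hz] at hdet
      exact zero_ne_one hdet
    · exact h1
  intro a
  rw [key a, hjj]

theorem trv_cent_col (hF : Fintype.card F = 2) (i j : Fin n)
    (t : Matrix.SpecialLinearGroup (Fin n) F)
    (ht : (t : Matrix (Fin n) (Fin n) F) = Matrix.transvection i j 1)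
    (g : ↥(Subgroup.centralizer ({t} : Set (Matrix.SpecialLinearGroup (Fin n) F)))) :
    ∀ a, g.1.1 a i = if a = i then 1 else 0 := by
  have h := Subgroup.mem_centralizer_iff.1 g.2 t (Set.mem_singleton t)
  have h' : t.1 * g.1.1 = g.1.1 * t.1 := congrArg Subtype.val h
  rw [ht] at h'
  exact trv_col hF i j g.1.1 g.1.2 h'.symm

theorem trv_mul_inv (t : Matrix.SpecialLinearGroup (Fin n) F)
    (g : ↥(Subgroup.centralizer ({t} : Set (Matrix.SpecialLinearGroup (Fin n) F)))) :
    g.1.1 * (g⁻¹).1.1 = 1 :=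
  congrArg (fun s : ↥(Subgroup.centralizer ({t} : Set (Matrix.SpecialLinearGroup (Fin n) F))) =>
    s.1.1) (mul_inv_cancel g)

/-- the elements of the centralizer whose rows other than row `i` are standard -/
def trvV (t : Matrix.SpecialLinearGroup (Fin n) F) (i : Fin n) :
    Subgroup ↥(Subgroup.centralizer ({t} : Set (Matrix.SpecialLinearGroup (Fin n) F))) where
  carrier := {x | ∀ a, a ≠ i → ∀ b, x.1.1 a b = (1 : Matrix (Fin n) (Fin n) F) a b}
  one_mem' := fun a _ b => rfl
  mul_mem' := by
    intro x y hx hy a ha b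
    show (x.1.1 * y.1.1) a b = _
    rw [Matrix.mul_apply]
    simp only [hx a ha]
    rw [← Matrix.mul_apply, Matrix.one_mul]
    exact hy a ha b
  inv_mem' := by
    intro x hx a ha b
    have h2 := congrFun (congrFun (trv_mul_inv t x) a) b
    rw [Matrix.mul_apply] at h2
    simp only [hx a ha] at h2
    rw [← Matrix.mul_apply, Matrix.one_mul] at h2
    exact h2

theorem mem_trvV (t : Matrix.SpecialLinearGroup (Fin n) F) (i : Fin n)
    (x : ↥(Subgroup.centralizer ({t} : Set (Matrix.SpecialLinearGroup (Fin n) F)))) :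
    x ∈ trvV t i ↔ ∀ a, a ≠ i → ∀ b, x.1.1 a b = (1 : Matrix (Fin n) (Fin n) F) a b := Iff.rfl

theorem trvV_normal (hF : Fintype.card F = 2) (i j : Fin n)
    (t : Matrix.SpecialLinearGroup (Fin n) F)
    (ht : (t : Matrix (Fin n) (Fin n) F) = Matrix.transvection i j 1) : (trvV t i).Normal := by
  constructor
  intro x hx g
  rw [mem_trvV] at hx ⊢
  intro a ha b
  have hgcol := trv_cent_col hF i j t ht g
  have h1 : ∀ k, (g.1.1 * x.1.1) a k = g.1.1 a k := by
    intro k
    rw [Matrix.mul_apply]
    have e : ∀ l ∈ Finset.univ, g.1.1 a l * x.1.1 l k =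
        g.1.1 a l * (1 : Matrix (Fin n) (Fin n) F) l k := by
      intro l _
      by_cases hl : l = i
      · rw [hl, hgcol a, if_neg ha, zero_mul, zero_mul]
      · rw [hx l hl k]
    rw [Finset.sum_congr rfl e, ← Matrix.mul_apply, Matrix.mul_one]
  show (g.1.1 * x.1.1 * (g⁻¹).1.1) a b = _
  rw [Matrix.mul_apply]
  simp only [h1]
  rw [← Matrix.mul_apply, trv_mul_inv]

theorem trvV_sq (hF : Fintype.card F = 2) (i j : Fin n)
    (t : Matrix.SpecialLinearGroup (Fin n) F)
    (ht : (t : Matrix (Fin n) (Fin n) F) = Matrix.transvection i j 1)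
    (x : ↥(Subgroup.centralizer ({t} : Set (Matrix.SpecialLinearGroup (Fin n) F))))
    (hx : x ∈ trvV t i) : x * x = 1 := by
  have hcol := trv_cent_col hF i j t ht x
  have hxx := (trvV t i).mul_mem hx hx
  rw [mem_trvV] at hx hxx
  apply Subtype.ext
  apply Subtype.ext
  show x.1.1 * x.1.1 = 1
  ext a b
  by_cases ha : a = i
  · rw [ha]
    have e : ∀ k ∈ Finset.univ, x.1.1 i k * x.1.1 k b =
        x.1.1 i k * (1 : Matrix (Fin n) (Fin n) F) k b +
          x.1.1 i k * (x.1.1 k b - (1 : Matrix (Fin n) (Fin n) F) k b) := fun k _ => by ring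
    rw [Matrix.mul_apply, Finset.sum_congr rfl e, Finset.sum_add_distrib, ← Matrix.mul_apply,
      Matrix.mul_one, Finset.sum_eq_single i]
    · rw [hcol i, if_pos rfl, one_mul]
      have h1 := f2_add_self hF (x.1.1 i b)
      have h2 := f2_add_self hF ((1 : Matrix (Fin n) (Fin n) F) i b)
      linear_combination h1 - h2
    · intro k _ hk
      rw [hx k hk b, sub_self, mul_zero]
    · intro h
      exact absurd (Finset.mem_univ i) h
  · exact hxx a ha b

theorem trvV_pgroup (hF : Fintype.card F = 2) (i j : Fin n)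
    (t : Matrix.SpecialLinearGroup (Fin n) F)
    (ht : (t : Matrix (Fin n) (Fin n) F) = Matrix.transvection i j 1) :
    IsPGroup 2 ↥(trvV t i) := by
  intro g
  refine ⟨1, ?_⟩
  rw [pow_one, pow_two]
  exact Subtype.ext (trvV_sq hF i j t ht g.1 g.2)

theorem trv_mem (i j : Fin n) (hij : i ≠ j) (t : Matrix.SpecialLinearGroup (Fin n) F)
    (ht : (t : Matrix (Fin n) (Fin n) F) = Matrix.transvection i j 1) (b : Fin n) (hb : b ≠ i) :
    ∃ y : ↥(Subgroup.centralizer ({t} : Set (Matrix.SpecialLinearGroup (Fin n) F))),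
      y ∈ trvV t i ∧ y.1.1 = Matrix.transvection i b 1 := by
  obtain ⟨y0, hy0⟩ : ∃ y0 : Matrix.SpecialLinearGroup (Fin n) F,
      y0.1 = Matrix.transvection i b 1 :=
    ⟨⟨Matrix.transvection i b 1, Matrix.det_transvection_of_ne i b hb.symm 1⟩, rfl⟩
  have hmem : y0 ∈ Subgroup.centralizer ({t} : Set (Matrix.SpecialLinearGroup (Fin n) F)) := by
    rw [Subgroup.mem_centralizer_iff]
    intro h hh
    rw [Set.mem_singleton_iff] at hh
    rw [hh]
    apply Subtype.ext
    rw [Matrix.SpecialLinearGroup.coe_mul, Matrix.SpecialLinearGroup.coe_mul, hy0, ht]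
    unfold Matrix.transvection
    have hAB : Matrix.single i j (1 : F) * Matrix.single i b (1 : F) = 0 :=
      Matrix.single_mul_single_of_ne (1 : F) i j i hij.symm 1
    have hBA : Matrix.single i b (1 : F) * Matrix.single i j (1 : F) = 0 :=
      Matrix.single_mul_single_of_ne (1 : F) i b i hb 1
    rw [Matrix.add_mul, Matrix.mul_add, Matrix.mul_add, Matrix.add_mul, Matrix.mul_add,
      Matrix.mul_add, hAB, hBA]
    simp only [Matrix.one_mul, Matrix.mul_one]
    abel
  refine ⟨⟨y0, hmem⟩, ?_, hy0⟩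
  rw [mem_trvV]
  intro a ha c
  show y0.1 a c = _
  rw [hy0]
  unfold Matrix.transvection
  rw [Matrix.add_apply, Matrix.single_apply, if_neg (fun h => ha h.1.symm), add_zero]

theorem trvV_self (hF : Fintype.card F = 2) (i j : Fin n) (hij : i ≠ j)
    (t : Matrix.SpecialLinearGroup (Fin n) F)
    (ht : (t : Matrix (Fin n) (Fin n) F) = Matrix.transvection i j 1) :
    Subgroup.centralizer (trvV t i : Set ↥(Subgroup.centralizer
      ({t} : Set (Matrix.SpecialLinearGroup (Fin n) F)))) ≤ trvV t i := by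
  intro c hc
  rw [mem_trvV]
  intro b hb b'
  obtain ⟨y, hyV, hy⟩ := trv_mem i j hij t ht b hb
  have h1 := hc y hyV
  have h2 : y.1.1 * c.1.1 = c.1.1 * y.1.1 :=
    congrArg (fun s : ↥(Subgroup.centralizer
      ({t} : Set (Matrix.SpecialLinearGroup (Fin n) F))) => s.1.1) h1
  rw [hy] at h2
  have h3 := congrFun (congrFun h2 i) b'
  rw [trvR, trvL, if_pos rfl] at h3
  have h4 := add_left_cancel h3
  rw [h4, trv_cent_col hF i j t ht c i, if_pos rfl, Matrix.one_apply]
  by_cases h : b' = b
  · rw [if_pos h, if_pos h.symm]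
  · rw [if_neg h, if_neg (fun h' => h h'.symm)]

theorem trv_cent_fstar (hF : Fintype.card F = 2) (i j : Fin n) (hij : i ≠ j)
    (t : Matrix.SpecialLinearGroup (Fin n) F)
    (ht : (t : Matrix (Fin n) (Fin n) F) = Matrix.transvection i j 1) :
    Cfsg.generalizedFittingSubgroup
        ↥(Subgroup.centralizer ({t} : Set (Matrix.SpecialLinearGroup (Fin n) F))) =
      Cfsg.pCore 2 ↥(Subgroup.centralizer ({t} : Set (Matrix.SpecialLinearGroup (Fin n) F))) := by
  haveI : Fact (Nat.Prime 2) := ⟨Nat.prime_two⟩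
  apply Cfsg.Agent.Helper17.genFitting_eq_pCore_of_charP
  have hV : trvV t i ≤
      Cfsg.pCore 2 ↥(Subgroup.centralizer ({t} : Set (Matrix.SpecialLinearGroup (Fin n) F))) := by
    unfold Cfsg.pCore
    exact le_sSup ⟨trvV_normal hF i j t ht, trvV_pgroup hF i j t ht⟩
  exact (Subgroup.centralizer_le (SetLike.coe_subset_coe.2 hV)).trans
    ((trvV_self hF i j hij t ht).trans hV)

end TrvCent

end Cfsg.Agent.Helper3
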